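import Mathlib
import Cfsg.Agent.Lib.Sporadic.Co1Out.DataA0
import Cfsg.Agent.Lib.Sporadic.Co1Out.DataA1
import Cfsg.Agent.Lib.Sporadic.Co1Out.DataA2
import Cfsg.Agent.Lib.Sporadic.Co1Out.DataA3
import Cfsg.Agent.Lib.Sporadic.Co1Out.DataA4
import Cfsg.Agent.Lib.Sporadic.Co1Out.DataA5
import Cfsg.Agent.Lib.Sporadic.Co1Out.DataB0
import Cfsg.Agent.Lib.Sporadic.Co1Out.DataB1
import Cfsg.Agent.Lib.Sporadic.Co1Out.DataB2
import Cfsg.Agent.Lib.Sporadic.Co1Out.DataB3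
import Cfsg.Agent.Lib.Sporadic.Co1Out.DataB4

/-! The chains and the words. -/

set_option autoImplicit false

namespace Cfsg.Agent.Lib.Sporadic.Co1Out.Data

open Cfsg.Agent.Lib.Compute.PermCert Cfsg.Agent.Lib.Compute.OutChain Cfsg.Agent.Lib.Compute.OutChainC
open Cfsg.Agent.Lib.Sporadic.Co1Out.DataE Cfsg.Agent.Lib.Sporadic.Co1Out.DataA0 Cfsg.Agent.Lib.Sporadic.Co1Out.DataA1 Cfsg.Agent.Lib.Sporadic.Co1Out.DataA2 Cfsg.Agent.Lib.Sporadic.Co1Out.DataA3 Cfsg.Agent.Lib.Sporadic.Co1Out.DataA4 Cfsg.Agent.Lib.Sporadic.Co1Out.DataA5 Cfsg.Agent.Lib.Sporadic.Co1Out.DataB0 Cfsg.Agent.Lib.Sporadic.Co1Out.DataB1 Cfsg.Agent.Lib.Sporadic.Co1Out.DataB2 Cfsg.Agent.Lib.Sporadic.Co1Out.DataB3 Cfsg.Agent.Lib.Sporadic.Co1Out.DataB4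

noncomputable section

noncomputable def lrlvA : List (Lv × Rule) := [(lvA0, .free 0), (lvA1, .forced 1 0), (lvA2, .forced 1 45572), (lvA3, .forced 1 18498), (lvA4, .forced 1 53940), (lvA5, .forced 1 25888)]

noncomputable def lrlvB : List (Lv × Rule) := [(lvB0, .free 0), (lvB1, .forced 1 0), (lvB2, .forced 1 82483), (lvB3, .forced 1 64632), (lvB4, .forced 1 15275)]

end

/-- The words excluding the other candidates. -/
def kills : List (List Nat × Nat) := [([0, 1, 2, 2, 2, 0, 1, 2], 14)]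

end Cfsg.Agent.Lib.Sporadic.Co1Out.Data
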