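import Mathlib
import Cfsg.Agent.Lib.Sporadic.LeechPM
import Cfsg.Agent.Lib.Compute.OutChunk
import Cfsg.Agent.Lib.Sporadic.Co1Out.Vecs
import Cfsg.Agent.Lib.Sporadic.Co1Out.DataE

/-! The kernel checks of the action of the generators on the vectors. -/

set_option autoImplicit false
set_option maxRecDepth 100000
set_option Elab.async false

namespace Cfsg.Agent.Lib.Sporadic.Co1Out.Gen0

open Cfsg Cfsg.Agent.Lib.Compute.PermCert Cfsg.Agent.Lib.Compute.OutChain Cfsg.Agent.Lib.Compute.OutChainC
  Cfsg.Agent.Lib.Sporadic.LeechKey Cfsg.Agent.Lib.Sporadic.LeechMcLData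
  Cfsg.Agent.Lib.Sporadic.LeechA0 Cfsg.Agent.Lib.Sporadic.LeechMin Cfsg.Agent.Lib.Sporadic.LeechFast
  Cfsg.Agent.Lib.Sporadic.LeechPM Cfsg.Agent.Lib.Compute.OutChunk
open Cfsg.Agent.Lib.Sporadic.Co1Out.Vecs Cfsg.Agent.Lib.Sporadic.Co1Out.DataE

theorem len : tIs.length = 24 := by decide +kernel
theorem lt : tIs.all (fun t => Nat.blt t 24) = true := by decide +kernel

noncomputable def fn : Nat → Bool := fun i => permChk (TT i) (TT (LL eG0.f i)) tIs 0 || permChkN (TT i) (TT (LL eG0.f i)) tIs 0

theorem ok0 : chunkOK fn 98280 14 0 = true := by decide +kernel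
theorem ok1 : chunkOK fn 98280 14 16384 = true := by decide +kernel
theorem ok2 : chunkOK fn 98280 14 32768 = true := by decide +kernel
theorem ok3 : chunkOK fn 98280 14 49152 = true := by decide +kernel
theorem ok4 : chunkOK fn 98280 14 65536 = true := by decide +kernel
theorem ok5 : chunkOK fn 98280 14 81920 = true := by decide +kernel

theorem ok : allN fn 98280 17 = true := by
  refine allN_of_chunks (e := 14) (c := 6) (by norm_num) (by norm_num) fun j hj => ?_
  interval_cases j
  · exact ok0
  · exact ok1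
  · exact ok2
  · exact ok3
  · exact ok4
  · exact ok5

end Cfsg.Agent.Lib.Sporadic.Co1Out.Gen0
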