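import Mathlib
import Cfsg.Agent.Lib.Compute.OutFast
import Cfsg.Agent.Lib.Sporadic.Co1Out.Data

/-! The kernel checks for the outer automorphism group of the group Co1. -/

set_option autoImplicit false
set_option maxRecDepth 100000

namespace Cfsg.Agent.Lib.Sporadic.Co1Out.LvA1

open Cfsg.Agent.Lib.Compute.PermCert Cfsg.Agent.Lib.Compute.OutChain Cfsg.Agent.Lib.Compute.OutFinal
open Cfsg.Agent.Lib.Compute.OutChainC Cfsg.Agent.Lib.Compute.OutFinal2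
open Cfsg.Agent.Lib.Sporadic.Co1Out.DataE Cfsg.Agent.Lib.Sporadic.Co1Out.Data Cfsg.Agent.Lib.Sporadic.Co1Out.DataA0 Cfsg.Agent.Lib.Sporadic.Co1Out.DataA1 Cfsg.Agent.Lib.Sporadic.Co1Out.DataA2 Cfsg.Agent.Lib.Sporadic.Co1Out.DataA3 Cfsg.Agent.Lib.Sporadic.Co1Out.DataA4 Cfsg.Agent.Lib.Sporadic.Co1Out.DataA5 Cfsg.Agent.Lib.Sporadic.Co1Out.DataB0 Cfsg.Agent.Lib.Sporadic.Co1Out.DataB1 Cfsg.Agent.Lib.Sporadic.Co1Out.DataB2 Cfsg.Agent.Lib.Sporadic.Co1Out.DataB3 Cfsg.Agent.Lib.Sporadic.Co1Out.DataB4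

theorem lv_ok : chkLvL LL LT 17 131071 98280 17 lvA1 = true := by decide +kernel

end Cfsg.Agent.Lib.Sporadic.Co1Out.LvA1
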