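import Mathlib
import Cfsg.Agent.Lib.Compute.OutFast
import Cfsg.Agent.Lib.Sporadic.Co1Out.Data

/-! The kernel checks for the outer automorphism group of the group Co1. -/

set_option autoImplicit false
set_option maxRecDepth 100000

namespace Cfsg.Agent.Lib.Sporadic.Co1Out.Misc

open Cfsg.Agent.Lib.Compute.PermCert Cfsg.Agent.Lib.Compute.OutChain Cfsg.Agent.Lib.Compute.OutFinal
open Cfsg.Agent.Lib.Compute.OutChainC Cfsg.Agent.Lib.Compute.OutFinal2
open Cfsg.Agent.Lib.Sporadic.Co1Out.DataE Cfsg.Agent.Lib.Sporadic.Co1Out.Data Cfsg.Agent.Lib.Sporadic.Co1Out.DataA0 Cfsg.Agent.Lib.Sporadic.Co1Out.DataA1 Cfsg.Agent.Lib.Sporadic.Co1Out.DataA2 Cfsg.Agent.Lib.Sporadic.Co1Out.DataA3 Cfsg.Agent.Lib.Sporadic.Co1Out.DataA4 Cfsg.Agent.Lib.Sporadic.Co1Out.DataA5 Cfsg.Agent.Lib.Sporadic.Co1Out.DataB0 Cfsg.Agent.Lib.Sporadic.Co1Out.DataB1 Cfsg.Agent.Lib.Sporadic.Co1Out.DataB2 Cfsg.Agent.Lib.Sporadic.Co1Out.DataB3 Cfsg.Agent.Lib.Sporadic.Co1Out.DataB4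

theorem powP : eqB (iterF (LL piE.f) 23) (fun i => i) (baseL (lrlvA.map Prod.fst)) = true := by decide +kernel
theorem powR : eqB (iterF (LL rhoE.f) 11) (fun i => i) (baseL (lrlvA.map Prod.fst)) = true := by decide +kernel
theorem relR : eqB (fun i => LL rhoE.f (LL piE.f i)) (fun i => iterF (LL piE.f) 2 (LL rhoE.f i)) (baseL (lrlvA.map Prod.fst)) = true := by decide +kernel
theorem commYZ : eqB (fun i => LL yE.f (LL rhoE.f i)) (fun i => LL rhoE.f (LL yE.f i)) (baseL (lrlvA.map Prod.fst)) = true := by decide +kernel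
theorem kF : kills.all (fun wm => eqB (iterF (wFn (LL piE.f) (LL rhoE.f) (LL yE.f) wm.1) wm.2) (fun i => i) (baseL (lrlvA.map Prod.fst))) = true := by decide +kernel

end Cfsg.Agent.Lib.Sporadic.Co1Out.Misc
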