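import Mathlib
import Cfsg.Agent.Lib.Compute.OutFast
import Cfsg.Agent.Lib.Compute.OutPres
import Cfsg.Agent.Lib.Compute.OutChunk2
import Cfsg.Agent.Lib.Sporadic.Co1Out.Data

/-! The kernel checks for the outer automorphism group of the group Co1. -/

set_option autoImplicit false
set_option maxRecDepth 100000
set_option Elab.async false

namespace Cfsg.Agent.Lib.Sporadic.Co1Out.SearchA

open Cfsg.Agent.Lib.Compute.PermCert Cfsg.Agent.Lib.Compute.OutChain Cfsg.Agent.Lib.Compute.OutFinal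
open Cfsg.Agent.Lib.Compute.OutChainC Cfsg.Agent.Lib.Compute.OutFinal2 Cfsg.Agent.Lib.Compute.OutPres
open Cfsg.Agent.Lib.Compute.OutChunk Cfsg.Agent.Lib.Compute.OutChunk2
open Cfsg.Agent.Lib.Compute.ToddCoxeterCore (frc)
open Cfsg.Agent.Lib.Sporadic.Co1Out.DataE Cfsg.Agent.Lib.Sporadic.Co1Out.DataA0 Cfsg.Agent.Lib.Sporadic.Co1Out.DataA1 Cfsg.Agent.Lib.Sporadic.Co1Out.DataA2 Cfsg.Agent.Lib.Sporadic.Co1Out.DataA3 Cfsg.Agent.Lib.Sporadic.Co1Out.DataA4 Cfsg.Agent.Lib.Sporadic.Co1Out.DataA5 Cfsg.Agent.Lib.Sporadic.Co1Out.DataB0 Cfsg.Agent.Lib.Sporadic.Co1Out.DataB1 Cfsg.Agent.Lib.Sporadic.Co1Out.DataB2 Cfsg.Agent.Lib.Sporadic.Co1Out.DataB3 Cfsg.Agent.Lib.Sporadic.Co1Out.DataB4 Cfsg.Agent.Lib.Sporadic.Co1Out.Data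

theorem ruA : rulesOK 98280 (LL piE.f) [] lrlvA = true := by decide +kernel

noncomputable def fn : Nat → Bool := freeBody LL LT 17 131071 98280 17 (iterF (LL piE.f) 2)
    (conjLeafL LL piE rhoE 23 (baseL (lrlvA.map Prod.fst)))
    lvA0 0 lrlvA.tail id id

theorem ok0 : chunkOK fn 98280 14 0 = true := by decide +kernel
theorem ok1 : chunkOK fn 98280 14 16384 = true := by decide +kernel
theorem ok2 : chunkOK fn 98280 14 32768 = true := by decide +kernel
theorem ok3 : chunkOK fn 98280 14 49152 = true := by decide +kernel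
theorem ok4 : chunkOK fn 98280 14 65536 = true := by decide +kernel
theorem ok5 : chunkOK fn 98280 14 81920 = true := by decide +kernel

theorem ok : allN fn 98280 17 = true := by
  refine allN_of_chunks (e := 14) (c := 6) (by norm_num) (by norm_num) fun j hj => ?_
  interval_cases j
  · exact ok0
  · exact ok1
  · exact ok2
  · exact ok3
  · exact ok4
  · exact ok5

theorem sA : searchL LL LT 17 131071 98280 17 (iterF (LL piE.f) 2)
    (conjLeafL LL piE rhoE 23 (baseL (lrlvA.map Prod.fst))) lrlvA id id = true := by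
  show searchL LL LT 17 131071 98280 17 (iterF (LL piE.f) 2)
    (conjLeafL LL piE rhoE 23 (baseL (lrlvA.map Prod.fst))) ((lvA0, .free 0) :: lrlvA.tail) id id = true
  exact searchL_free ok

end Cfsg.Agent.Lib.Sporadic.Co1Out.SearchA
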