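import Mathlib
import Cfsg.Agent.Lib.Compute.OutFast
import Cfsg.Agent.Lib.Compute.OutPres
import Cfsg.Agent.Lib.Compute.OutChunk2
import Cfsg.Agent.Lib.Sporadic.Co1Out.Data

/-! The kernel checks for the outer automorphism group of the group Co1. -/

set_option autoImplicit false
set_option maxRecDepth 100000
set_option Elab.async false

namespace Cfsg.Agent.Lib.Sporadic.Co1Out.SiftP

open Cfsg.Agent.Lib.Compute.PermCert Cfsg.Agent.Lib.Compute.OutChain Cfsg.Agent.Lib.Compute.OutFinal
open Cfsg.Agent.Lib.Compute.OutChainC Cfsg.Agent.Lib.Compute.OutFinal2 Cfsg.Agent.Lib.Compute.OutPres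
open Cfsg.Agent.Lib.Compute.OutChunk Cfsg.Agent.Lib.Compute.OutChunk2
open Cfsg.Agent.Lib.Compute.ToddCoxeterCore (frc)
open Cfsg.Agent.Lib.Sporadic.Co1Out.DataE Cfsg.Agent.Lib.Sporadic.Co1Out.DataA0 Cfsg.Agent.Lib.Sporadic.Co1Out.DataA1 Cfsg.Agent.Lib.Sporadic.Co1Out.DataA2 Cfsg.Agent.Lib.Sporadic.Co1Out.DataA3 Cfsg.Agent.Lib.Sporadic.Co1Out.DataA4 Cfsg.Agent.Lib.Sporadic.Co1Out.DataA5 Cfsg.Agent.Lib.Sporadic.Co1Out.DataB0 Cfsg.Agent.Lib.Sporadic.Co1Out.DataB1 Cfsg.Agent.Lib.Sporadic.Co1Out.DataB2 Cfsg.Agent.Lib.Sporadic.Co1Out.DataB3 Cfsg.Agent.Lib.Sporadic.Co1Out.DataB4 Cfsg.Agent.Lib.Sporadic.Co1Out.Data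

/-- The remainder of the element after the sift. -/
noncomputable def G (a : Nat) : Nat :=
  frc (frc (frc (frc (frc (frc (LL piE.f a)
  (invUL LL LT 17 131071 lvA0 9 45572))
  (invUL LL LT 17 131071 lvA1 10 76904))
  (invUL LL LT 17 131071 lvA2 5 3276))
  (invUL LL LT 17 131071 lvA3 6 43158))
  (invUL LL LT 17 131071 lvA4 6 66730))
  (invUL LL LT 17 131071 lvA5 2 10199)

noncomputable def fn : Nat → Bool := fun i => Nat.beq (G i) i

theorem ok0 : chunkOK fn 98280 14 0 = true := by decide +kernel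
theorem ok1 : chunkOK fn 98280 14 16384 = true := by decide +kernel
theorem ok2 : chunkOK fn 98280 14 32768 = true := by decide +kernel
theorem ok3 : chunkOK fn 98280 14 49152 = true := by decide +kernel
theorem ok4 : chunkOK fn 98280 14 65536 = true := by decide +kernel
theorem ok5 : chunkOK fn 98280 14 81920 = true := by decide +kernel

theorem ok : allN fn 98280 17 = true := by
  refine allN_of_chunks (e := 14) (c := 6) (by norm_num) (by norm_num) fun j hj => ?_
  interval_cases j
  · exact ok0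
  · exact ok1
  · exact ok2
  · exact ok3
  · exact ok4
  · exact ok5

theorem sift : siftL LL LT 17 131071 98280 17 (lrlvA.map Prod.fst) (LL piE.f) = true := by
  show siftL LL LT 17 131071 98280 17 [lvA0, lvA1, lvA2, lvA3, lvA4, lvA5] (LL piE.f) = true
  exact (siftL_step 45572 9 (by decide +kernel) (by decide +kernel)
    (siftL_step 76904 10 (by decide +kernel) (by decide +kernel)
    (siftL_step 3276 5 (by decide +kernel) (by decide +kernel)
    (siftL_step 43158 6 (by decide +kernel) (by decide +kernel)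
    (siftL_step 66730 6 (by decide +kernel) (by decide +kernel)
    (siftL_step 10199 2 (by decide +kernel) (by decide +kernel)
    (siftL_nil ok)))))))

end Cfsg.Agent.Lib.Sporadic.Co1Out.SiftP
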