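import Mathlib
import Cfsg.Agent.Lib.Compute.OutFast
import Cfsg.Agent.Lib.Compute.OutPres
import Cfsg.Agent.Lib.Compute.OutChunk2
import Cfsg.Agent.Lib.Sporadic.Co1Out.Data

/-! The kernel checks for the outer automorphism group of the group Co1. -/

set_option autoImplicit false
set_option maxRecDepth 100000
set_option Elab.async false

namespace Cfsg.Agent.Lib.Sporadic.Co1Out.SiftY

open Cfsg.Agent.Lib.Compute.PermCert Cfsg.Agent.Lib.Compute.OutChain Cfsg.Agent.Lib.Compute.OutFinal
open Cfsg.Agent.Lib.Compute.OutChainC Cfsg.Agent.Lib.Compute.OutFinal2 Cfsg.Agent.Lib.Compute.OutPres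
open Cfsg.Agent.Lib.Compute.OutChunk Cfsg.Agent.Lib.Compute.OutChunk2
open Cfsg.Agent.Lib.Compute.ToddCoxeterCore (frc)
open Cfsg.Agent.Lib.Sporadic.Co1Out.DataE Cfsg.Agent.Lib.Sporadic.Co1Out.DataA0 Cfsg.Agent.Lib.Sporadic.Co1Out.DataA1 Cfsg.Agent.Lib.Sporadic.Co1Out.DataA2 Cfsg.Agent.Lib.Sporadic.Co1Out.DataA3 Cfsg.Agent.Lib.Sporadic.Co1Out.DataA4 Cfsg.Agent.Lib.Sporadic.Co1Out.DataA5 Cfsg.Agent.Lib.Sporadic.Co1Out.DataB0 Cfsg.Agent.Lib.Sporadic.Co1Out.DataB1 Cfsg.Agent.Lib.Sporadic.Co1Out.DataB2 Cfsg.Agent.Lib.Sporadic.Co1Out.DataB3 Cfsg.Agent.Lib.Sporadic.Co1Out.DataB4 Cfsg.Agent.Lib.Sporadic.Co1Out.Data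

/-- The remainder of the element after the sift. -/
noncomputable def G (a : Nat) : Nat :=
  frc (frc (frc (frc (frc (frc (LL yE.f a)
  (invUL LL LT 17 131071 lvA0 10 3797))
  (invUL LL LT 17 131071 lvA1 10 16825))
  (invUL LL LT 17 131071 lvA2 7 4212))
  (invUL LL LT 17 131071 lvA3 6 89096))
  (invUL LL LT 17 131071 lvA4 2 66962))
  (invUL LL LT 17 131071 lvA5 2 41304)

noncomputable def fn : Nat → Bool := fun i => Nat.beq (G i) i

theorem ok0 : chunkOK fn 98280 14 0 = true := by decide +kernel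
theorem ok1 : chunkOK fn 98280 14 16384 = true := by decide +kernel
theorem ok2 : chunkOK fn 98280 14 32768 = true := by decide +kernel
theorem ok3 : chunkOK fn 98280 14 49152 = true := by decide +kernel
theorem ok4 : chunkOK fn 98280 14 65536 = true := by decide +kernel
theorem ok5 : chunkOK fn 98280 14 81920 = true := by decide +kernel

theorem ok : allN fn 98280 17 = true := by
  refine allN_of_chunks (e := 14) (c := 6) (by norm_num) (by norm_num) fun j hj => ?_
  interval_cases j
  · exact ok0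
  · exact ok1
  · exact ok2
  · exact ok3
  · exact ok4
  · exact ok5

theorem sift : siftL LL LT 17 131071 98280 17 (lrlvA.map Prod.fst) (LL yE.f) = true := by
  show siftL LL LT 17 131071 98280 17 [lvA0, lvA1, lvA2, lvA3, lvA4, lvA5] (LL yE.f) = true
  exact (siftL_step 3797 10 (by decide +kernel) (by decide +kernel)
    (siftL_step 16825 10 (by decide +kernel) (by decide +kernel)
    (siftL_step 4212 7 (by decide +kernel) (by decide +kernel)
    (siftL_step 89096 6 (by decide +kernel) (by decide +kernel)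
    (siftL_step 66962 2 (by decide +kernel) (by decide +kernel)
    (siftL_step 41304 2 (by decide +kernel) (by decide +kernel)
    (siftL_nil ok)))))))

end Cfsg.Agent.Lib.Sporadic.Co1Out.SiftY
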