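import Mathlib
import Cfsg.Agent.Lib.Sporadic.Co1Out.LvA0
import Cfsg.Agent.Lib.Sporadic.Co1Out.LvA1
import Cfsg.Agent.Lib.Sporadic.Co1Out.LvA2
import Cfsg.Agent.Lib.Sporadic.Co1Out.LvA3
import Cfsg.Agent.Lib.Sporadic.Co1Out.LvA4
import Cfsg.Agent.Lib.Sporadic.Co1Out.LvA5
import Cfsg.Agent.Lib.Sporadic.Co1Out.LvB0
import Cfsg.Agent.Lib.Sporadic.Co1Out.LvB1
import Cfsg.Agent.Lib.Sporadic.Co1Out.LvB2
import Cfsg.Agent.Lib.Sporadic.Co1Out.LvB3
import Cfsg.Agent.Lib.Sporadic.Co1Out.LvB4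
import Cfsg.Agent.Lib.Sporadic.Co1Out.NxA0g0
import Cfsg.Agent.Lib.Sporadic.Co1Out.NxA0g1
import Cfsg.Agent.Lib.Sporadic.Co1Out.NxA0g2
import Cfsg.Agent.Lib.Sporadic.Co1Out.NxA1g0
import Cfsg.Agent.Lib.Sporadic.Co1Out.NxA1g1
import Cfsg.Agent.Lib.Sporadic.Co1Out.NxA1g2
import Cfsg.Agent.Lib.Sporadic.Co1Out.NxA2g0
import Cfsg.Agent.Lib.Sporadic.Co1Out.NxA2g1
import Cfsg.Agent.Lib.Sporadic.Co1Out.NxA2g2
import Cfsg.Agent.Lib.Sporadic.Co1Out.NxA3g0
import Cfsg.Agent.Lib.Sporadic.Co1Out.NxA3g1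
import Cfsg.Agent.Lib.Sporadic.Co1Out.NxA3g2
import Cfsg.Agent.Lib.Sporadic.Co1Out.NxA4g0
import Cfsg.Agent.Lib.Sporadic.Co1Out.NxA4g1
import Cfsg.Agent.Lib.Sporadic.Co1Out.NxB0g0
import Cfsg.Agent.Lib.Sporadic.Co1Out.NxB0g1
import Cfsg.Agent.Lib.Sporadic.Co1Out.NxB0g2
import Cfsg.Agent.Lib.Sporadic.Co1Out.NxB1g0
import Cfsg.Agent.Lib.Sporadic.Co1Out.NxB1g1
import Cfsg.Agent.Lib.Sporadic.Co1Out.NxB1g2
import Cfsg.Agent.Lib.Sporadic.Co1Out.NxB2g0
import Cfsg.Agent.Lib.Sporadic.Co1Out.NxB2g1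
import Cfsg.Agent.Lib.Sporadic.Co1Out.NxB2g2
import Cfsg.Agent.Lib.Sporadic.Co1Out.NxB3g0
import Cfsg.Agent.Lib.Sporadic.Co1Out.NxB3g1
import Cfsg.Agent.Lib.Sporadic.Co1Out.NxB3g2
import Cfsg.Agent.Lib.Sporadic.Co1Out.SearchA
import Cfsg.Agent.Lib.Sporadic.Co1Out.SearchB
import Cfsg.Agent.Lib.Sporadic.Co1Out.SiftP
import Cfsg.Agent.Lib.Sporadic.Co1Out.SiftR
import Cfsg.Agent.Lib.Sporadic.Co1Out.SiftY
import Cfsg.Agent.Lib.Sporadic.Co1Out.Misc
import Cfsg.Agent.Lib.Sporadic.Co1Out.Table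
import Cfsg.Agent.Lib.Sporadic.Co1Out.Gen0
import Cfsg.Agent.Lib.Sporadic.Co1Out.Gen1
import Cfsg.Agent.Lib.Sporadic.Co1Out.Gen2
import Cfsg.Agent.Lib.Sporadic.Co1Out.Gen3

/-! The outer automorphism group of the group Co1. -/

set_option autoImplicit false
set_option maxRecDepth 100000

namespace Cfsg.Agent.Lib.Sporadic.Co1Out.Main

open Cfsg Cfsg.Agent.Lib.Compute.PermCert Cfsg.Agent.Lib.Compute.OutChain Cfsg.Agent.Lib.Compute.OutFinal
open Cfsg.Agent.Lib.Compute.OutChainC Cfsg.Agent.Lib.Compute.OutFinal2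
  Cfsg.Agent.Lib.Compute.OutFast
open Cfsg.Agent.Lib.Compute.PermOut
open Cfsg.Agent.Lib.Sporadic.GolayCore Cfsg.Agent.Lib.Sporadic.LeechBasic Cfsg.Agent.Lib.Sporadic.LeechAut
  Cfsg.Agent.Lib.Sporadic.LeechMat Cfsg.Agent.Lib.Sporadic.LeechKey Cfsg.Agent.Lib.Sporadic.LeechEnum
  Cfsg.Agent.Lib.Sporadic.LeechA0 Cfsg.Agent.Lib.Sporadic.LeechMcLData Cfsg.Agent.Lib.Sporadic.LeechMin
  Cfsg.Agent.Lib.Sporadic.LeechFast Cfsg.Agent.Lib.Sporadic.LeechPM
open Cfsg.Agent.Lib.Sporadic.Co1Out.DataE Cfsg.Agent.Lib.Sporadic.Co1Out.Data Cfsg.Agent.Lib.Sporadic.Co1Out.DataA0 Cfsg.Agent.Lib.Sporadic.Co1Out.DataA1 Cfsg.Agent.Lib.Sporadic.Co1Out.DataA2 Cfsg.Agent.Lib.Sporadic.Co1Out.DataA3 Cfsg.Agent.Lib.Sporadic.Co1Out.DataA4 Cfsg.Agent.Lib.Sporadic.Co1Out.DataA5 Cfsg.Agent.Lib.Sporadic.Co1Out.DataB0 Cfsg.Agent.Lib.Sporadic.Co1Out.DataB1 Cfsg.Agent.Lib.Sporadic.Co1Out.DataB2 Cfsg.Agent.Lib.Sporadic.Co1Out.DataB3 Cfsg.Agent.Lib.Sporadic.Co1Out.DataB4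 Cfsg.Agent.Lib.Sporadic.Co1Out.SearchA Cfsg.Agent.Lib.Sporadic.Co1Out.SearchB Cfsg.Agent.Lib.Sporadic.Co1Out.Misc Cfsg.Agent.Lib.Sporadic.Co1Out.Vecs Cfsg.Agent.Lib.Sporadic.Co1Out.Table

theorem hd : 98280 ≤ 2 ^ 17 := by norm_num

theorem hr : Readers LL LT 17 131071 29 536870911 :=
  Readers.mk' (by decide +kernel) (by decide +kernel) (by decide +kernel) (by decide +kernel) (by decide +kernel) (by decide +kernel)

theorem hLL : LL = get 17 131071 := funext fun p => funext fun i => hr.hL p i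

theorem nextL_one_cons {L : Nat → Nat → Nat} {N' d' : Nat} {gens : List Elt} {b : Nat} {t : Elt} {ts : List Elt} {u : List Nat}
    {us : List (List Nat)} (h : nextL L N' d' gens b [t] [u] = true) (h' : nextL L N' d' gens b ts us = true) :
    nextL L N' d' gens b (t :: ts) (u :: us) = true := by
  rw [nextL] at h ⊢
  cases h1 : allN (fun i => Nat.beq (L t.f i) (wordL L gens u i)) N' d'
  · rw [h1] at h
    exact h
  · rw [h1] at h
    cases h2 : Nat.beq (L t.f b) b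
    · rw [h2] at h
      exact h
    · exact h'

theorem gp0 : GenPM 17 131071 98280 TT eG0 gS (permL tIs) :=
  genPM_perm hd actS Cfsg.Agent.Lib.Sporadic.Co1Out.Gen0.len Cfsg.Agent.Lib.Sporadic.Co1Out.Gen0.lt (by have h := Cfsg.Agent.Lib.Sporadic.Co1Out.Gen0.ok; unfold Cfsg.Agent.Lib.Sporadic.Co1Out.Gen0.fn at h; rw [hLL] at h; exact h)

theorem gp1 : GenPM 17 131071 98280 TT eG1 g0 (permL tI0) :=
  genPM_perm hd act0 Cfsg.Agent.Lib.Sporadic.Co1Out.Gen1.len Cfsg.Agent.Lib.Sporadic.Co1Out.Gen1.lt (by have h := Cfsg.Agent.Lib.Sporadic.Co1Out.Gen1.ok; unfold Cfsg.Agent.Lib.Sporadic.Co1Out.Gen1.fn at h; rw [hLL] at h; exact h)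

theorem gp2 : GenPM 17 131071 98280 TT eG2 g1 (permL tI1) :=
  genPM_perm hd act1 Cfsg.Agent.Lib.Sporadic.Co1Out.Gen2.len Cfsg.Agent.Lib.Sporadic.Co1Out.Gen2.lt (by have h := Cfsg.Agent.Lib.Sporadic.Co1Out.Gen2.ok; unfold Cfsg.Agent.Lib.Sporadic.Co1Out.Gen2.fn at h; rw [hLL] at h; exact h)

theorem gp3 : GenPM 17 131071 98280 TT eG3 (matCo0 xiMat_ok) (matL xiMat 2) :=
  genPM_mat hd (acts_mat xiMat_ok) (by norm_num) (by norm_num) Cfsg.Agent.Lib.Sporadic.Co1Out.Gen3.val (by have h := Cfsg.Agent.Lib.Sporadic.Co1Out.Gen3.ok; unfold Cfsg.Agent.Lib.Sporadic.Co1Out.Gen3.fn at h; rw [hLL] at h; exact h)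

theorem hbT : ∀ i, i < 98280 → TT i < LeechPM.codeZ := by
  have h := bound_ok
  rw [allN_eq _ hd, allB_iff] at h
  intro i hi
  simpa [Nat.blt_eq] using h i hi

theorem hmemT : ∀ i, i < 98280 → vecOf (decV (TT i)) ∈ leechLattice := by
  refine mem_of_treeP hd (Gs := [eG0, eG1, eG2, eG3]) (fun e he => ?_) (inLattice_sound root_ok) tree_ok
  simp only [List.mem_cons, List.not_mem_nil, or_false] at he
  rcases he with rfl | rfl | rfl | rfl
  · exact ⟨_, _, gp0⟩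
  · exact ⟨_, _, gp1⟩
  · exact ⟨_, _, gp2⟩
  · exact ⟨_, _, gp3⟩

theorem chkA : chkChain 17 131071 98280 29 536870911 (lrlvA.map Prod.fst) = true := by
  show chkChain 17 131071 98280 29 536870911 [lvA0, lvA1, lvA2, lvA3, lvA4, lvA5] = true
  have h5 : chkChain 17 131071 98280 29 536870911 [lvA5] = true := by
    refine chkChain_cons ?_ ?_ rfl
    · rw [← chkLvL_eq hr hd]; exact Cfsg.Agent.Lib.Sporadic.Co1Out.LvA5.lv_ok
    · rw [← nextL_eq hr.hL hd]; rfl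
  have h4 : chkChain 17 131071 98280 29 536870911 [lvA4, lvA5] = true := by
    refine chkChain_cons ?_ ?_ h5
    · rw [← chkLvL_eq hr hd]; exact Cfsg.Agent.Lib.Sporadic.Co1Out.LvA4.lv_ok
    · rw [← nextL_eq hr.hL hd]
      show nextL LL 98280 17 lvA4.gens lvA4.b [lvA5e0, lvA5e1] [lvA5w0, lvA5w1] = true
      exact nextL_one_cons Cfsg.Agent.Lib.Sporadic.Co1Out.NxA4g0.nx_ok (nextL_one_cons Cfsg.Agent.Lib.Sporadic.Co1Out.NxA4g1.nx_ok (rfl))
  have h3 : chkChain 17 131071 98280 29 536870911 [lvA3, lvA4, lvA5] = true := by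
    refine chkChain_cons ?_ ?_ h4
    · rw [← chkLvL_eq hr hd]; exact Cfsg.Agent.Lib.Sporadic.Co1Out.LvA3.lv_ok
    · rw [← nextL_eq hr.hL hd]
      show nextL LL 98280 17 lvA3.gens lvA3.b [lvA4e0, lvA4e1, lvA4e2] [lvA4w0, lvA4w1, lvA4w2] = true
      exact nextL_one_cons Cfsg.Agent.Lib.Sporadic.Co1Out.NxA3g0.nx_ok (nextL_one_cons Cfsg.Agent.Lib.Sporadic.Co1Out.NxA3g1.nx_ok (nextL_one_cons Cfsg.Agent.Lib.Sporadic.Co1Out.NxA3g2.nx_ok (rfl)))
  have h2 : chkChain 17 131071 98280 29 536870911 [lvA2, lvA3, lvA4, lvA5] = true := by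
    refine chkChain_cons ?_ ?_ h3
    · rw [← chkLvL_eq hr hd]; exact Cfsg.Agent.Lib.Sporadic.Co1Out.LvA2.lv_ok
    · rw [← nextL_eq hr.hL hd]
      show nextL LL 98280 17 lvA2.gens lvA2.b [lvA3e0, lvA3e1, lvA3e2] [lvA3w0, lvA3w1, lvA3w2] = true
      exact nextL_one_cons Cfsg.Agent.Lib.Sporadic.Co1Out.NxA2g0.nx_ok (nextL_one_cons Cfsg.Agent.Lib.Sporadic.Co1Out.NxA2g1.nx_ok (nextL_one_cons Cfsg.Agent.Lib.Sporadic.Co1Out.NxA2g2.nx_ok (rfl)))
  have h1 : chkChain 17 131071 98280 29 536870911 [lvA1, lvA2, lvA3, lvA4, lvA5] = true := by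
    refine chkChain_cons ?_ ?_ h2
    · rw [← chkLvL_eq hr hd]; exact Cfsg.Agent.Lib.Sporadic.Co1Out.LvA1.lv_ok
    · rw [← nextL_eq hr.hL hd]
      show nextL LL 98280 17 lvA1.gens lvA1.b [lvA2e0, lvA2e1, lvA2e2] [lvA2w0, lvA2w1, lvA2w2] = true
      exact nextL_one_cons Cfsg.Agent.Lib.Sporadic.Co1Out.NxA1g0.nx_ok (nextL_one_cons Cfsg.Agent.Lib.Sporadic.Co1Out.NxA1g1.nx_ok (nextL_one_cons Cfsg.Agent.Lib.Sporadic.Co1Out.NxA1g2.nx_ok (rfl)))
  have h0 : chkChain 17 131071 98280 29 536870911 [lvA0, lvA1, lvA2, lvA3, lvA4, lvA5] = true := by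
    refine chkChain_cons ?_ ?_ h1
    · rw [← chkLvL_eq hr hd]; exact Cfsg.Agent.Lib.Sporadic.Co1Out.LvA0.lv_ok
    · rw [← nextL_eq hr.hL hd]
      show nextL LL 98280 17 lvA0.gens lvA0.b [lvA1e0, lvA1e1, lvA1e2] [lvA1w0, lvA1w1, lvA1w2] = true
      exact nextL_one_cons Cfsg.Agent.Lib.Sporadic.Co1Out.NxA0g0.nx_ok (nextL_one_cons Cfsg.Agent.Lib.Sporadic.Co1Out.NxA0g1.nx_ok (nextL_one_cons Cfsg.Agent.Lib.Sporadic.Co1Out.NxA0g2.nx_ok (rfl)))
  exact h0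

theorem chkB : chkChain 17 131071 98280 29 536870911 (lrlvB.map Prod.fst) = true := by
  show chkChain 17 131071 98280 29 536870911 [lvB0, lvB1, lvB2, lvB3, lvB4] = true
  have h4 : chkChain 17 131071 98280 29 536870911 [lvB4] = true := by
    refine chkChain_cons ?_ ?_ rfl
    · rw [← chkLvL_eq hr hd]; exact Cfsg.Agent.Lib.Sporadic.Co1Out.LvB4.lv_ok
    · rw [← nextL_eq hr.hL hd]; rfl
  have h3 : chkChain 17 131071 98280 29 536870911 [lvB3, lvB4] = true := by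
    refine chkChain_cons ?_ ?_ h4
    · rw [← chkLvL_eq hr hd]; exact Cfsg.Agent.Lib.Sporadic.Co1Out.LvB3.lv_ok
    · rw [← nextL_eq hr.hL hd]
      show nextL LL 98280 17 lvB3.gens lvB3.b [lvB4e0, lvB4e1, lvB4e2] [lvB4w0, lvB4w1, lvB4w2] = true
      exact nextL_one_cons Cfsg.Agent.Lib.Sporadic.Co1Out.NxB3g0.nx_ok (nextL_one_cons Cfsg.Agent.Lib.Sporadic.Co1Out.NxB3g1.nx_ok (nextL_one_cons Cfsg.Agent.Lib.Sporadic.Co1Out.NxB3g2.nx_ok (rfl)))
  have h2 : chkChain 17 131071 98280 29 536870911 [lvB2, lvB3, lvB4] = true := by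
    refine chkChain_cons ?_ ?_ h3
    · rw [← chkLvL_eq hr hd]; exact Cfsg.Agent.Lib.Sporadic.Co1Out.LvB2.lv_ok
    · rw [← nextL_eq hr.hL hd]
      show nextL LL 98280 17 lvB2.gens lvB2.b [lvB3e0, lvB3e1, lvB3e2] [lvB3w0, lvB3w1, lvB3w2] = true
      exact nextL_one_cons Cfsg.Agent.Lib.Sporadic.Co1Out.NxB2g0.nx_ok (nextL_one_cons Cfsg.Agent.Lib.Sporadic.Co1Out.NxB2g1.nx_ok (nextL_one_cons Cfsg.Agent.Lib.Sporadic.Co1Out.NxB2g2.nx_ok (rfl)))
  have h1 : chkChain 17 131071 98280 29 536870911 [lvB1, lvB2, lvB3, lvB4] = true := by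
    refine chkChain_cons ?_ ?_ h2
    · rw [← chkLvL_eq hr hd]; exact Cfsg.Agent.Lib.Sporadic.Co1Out.LvB1.lv_ok
    · rw [← nextL_eq hr.hL hd]
      show nextL LL 98280 17 lvB1.gens lvB1.b [lvB2e0, lvB2e1, lvB2e2] [lvB2w0, lvB2w1, lvB2w2] = true
      exact nextL_one_cons Cfsg.Agent.Lib.Sporadic.Co1Out.NxB1g0.nx_ok (nextL_one_cons Cfsg.Agent.Lib.Sporadic.Co1Out.NxB1g1.nx_ok (nextL_one_cons Cfsg.Agent.Lib.Sporadic.Co1Out.NxB1g2.nx_ok (rfl)))
  have h0 : chkChain 17 131071 98280 29 536870911 [lvB0, lvB1, lvB2, lvB3, lvB4] = true := by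
    refine chkChain_cons ?_ ?_ h1
    · rw [← chkLvL_eq hr hd]; exact Cfsg.Agent.Lib.Sporadic.Co1Out.LvB0.lv_ok
    · rw [← nextL_eq hr.hL hd]
      show nextL LL 98280 17 lvB0.gens lvB0.b [lvB1e0, lvB1e1, lvB1e2] [lvB1w0, lvB1w1, lvB1w2] = true
      exact nextL_one_cons Cfsg.Agent.Lib.Sporadic.Co1Out.NxB0g0.nx_ok (nextL_one_cons Cfsg.Agent.Lib.Sporadic.Co1Out.NxB0g1.nx_ok (nextL_one_cons Cfsg.Agent.Lib.Sporadic.Co1Out.NxB0g2.nx_ok (rfl)))
  exact h0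

theorem ordA : ordC (lrlvA.map Prod.fst) = 4157776806543360000 := by decide +kernel
theorem ordB : ordC (lrlvB.map Prod.fst) = 4157776806543360000 := by decide +kernel

theorem hExists : ∃ K : Subgroup (Equiv.Perm (Fin 98280)), ChainFor 17 131071 98280 29 536870911 K (lrlvA.map Prod.fst) ∧
    Nonempty ((Co0 ⧸ Subgroup.center Co0) ≃* K) := by
  refine rep_table_pm chkA hbT (sorted_of_chk hd sorted_ok) hmemT (fun e he => ?_) (by rw [ordA])
  have he' : e ∈ [eG0, eG1, eG2, eG3] := he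
  simp only [List.mem_cons, List.not_mem_nil, or_false] at he'
  rcases he' with rfl | rfl | rfl | rfl
  · exact ⟨_, _, gp0⟩
  · exact ⟨_, _, gp1⟩
  · exact ⟨_, _, gp2⟩
  · exact ⟨_, _, gp3⟩

/-- The group as a permutation group. -/
noncomputable def K : Subgroup (Equiv.Perm (Fin 98280)) := Classical.choose hExists

theorem hA : ChainFor 17 131071 98280 29 536870911 K (lrlvA.map Prod.fst) := (Classical.choose_spec hExists).1

theorem iso : Nonempty ((Co0 ⧸ Subgroup.center Co0) ≃* K) := (Classical.choose_spec hExists).2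

theorem card_K : Nat.card K = 4157776806543360000 := by
  rw [← hA.ord]
  exact ordA

theorem out_eq : Nat.card (Out Cfsg.Spor.Co1) = Nat.card (Out K) := by
  obtain ⟨e⟩ := iso
  exact card_out_congr e

theorem vals : [piE, rhoE, yE].all (validB 17 131071 98280) = true := by
  have h := hdG_valid chkB
  rw [show hdG (lrlvB.map Prod.fst) = [piE, rhoE, yE] from rfl] at h
  exact h

theorem vP : validB 17 131071 98280 piE = true := by
  have := vals
  simp only [List.all_cons, List.all_nil, Bool.and_true, Bool.and_eq_true] at this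
  exact this.1
theorem vR : validB 17 131071 98280 rhoE = true := by
  have := vals
  simp only [List.all_cons, List.all_nil, Bool.and_true, Bool.and_eq_true] at this
  exact this.2.1
theorem vY : validB 17 131071 98280 yE = true := by
  have := vals
  simp only [List.all_cons, List.all_nil, Bool.and_true, Bool.and_eq_true] at this
  exact this.2.2

theorem memOf {X : Equiv.Perm (Fin 98280)} {g : Nat → Nat} (hg : ∀ i : Fin 98280, g i = X i)
    (hs : siftL LL LT 17 131071 98280 17 (lrlvA.map Prod.fst) g = true) : X ∈ K := by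
  rw [siftL_eq hr hd] at hs
  exact hA.le (siftC_sound _ X g hA.chk hg hs)

theorem mP : permOf 17 131071 98280 piE ∈ K := memOf (by rw [hLL]; exact gt_eq vP) Cfsg.Agent.Lib.Sporadic.Co1Out.SiftP.sift
theorem mR : permOf 17 131071 98280 rhoE ∈ K := memOf (by rw [hLL]; exact gt_eq vR) Cfsg.Agent.Lib.Sporadic.Co1Out.SiftR.sift
theorem mY : permOf 17 131071 98280 yE ∈ K := memOf (by rw [hLL]; exact gt_eq vY) Cfsg.Agent.Lib.Sporadic.Co1Out.SiftY.sift

theorem hB : ChainFor 17 131071 98280 29 536870911 K (lrlvB.map Prod.fst) := by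
  refine ⟨chkB, ?_, by rw [ordB, card_K]⟩
  refine (Subgroup.closure_le _).mpr ?_
  rintro _ ⟨e, he, rfl⟩
  have he' : e ∈ [piE, rhoE, yE] := he
  simp only [List.mem_cons, List.not_mem_nil, or_false] at he'
  rcases he' with rfl | rfl | rfl
  · exact mP
  · exact mR
  · exact mY

instance factP : Fact (Nat.Prime 23) := ⟨by norm_num⟩

theorem hpow : permOf 17 131071 98280 piE ^ 23 = 1 :=
  pow_of_base hA vP mP (by have h := powP; rw [hLL] at h; exact h)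

theorem hrel : permOf 17 131071 98280 rhoE * permOf 17 131071 98280 piE = permOf 17 131071 98280 piE ^ 2 * permOf 17 131071 98280 rhoE :=
  rel_of_base hA vP vR mP mR (by have h := relR; rw [hLL] at h; exact h)

theorem hkF : killsOK 98280 17 (gt 17 131071 piE) (gt 17 131071 rhoE) (gt 17 131071 yE) kills = true :=
  killsOK_of_base hA hd mP mR mY (gt_eq vP) (gt_eq vR) (gt_eq vY) (by have h := kF; rw [hLL] at h; exact h)

theorem hconjP : ∀ x ∈ K, x * permOf 17 131071 98280 piE = permOf 17 131071 98280 piE ^ 2 * x →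
    ∃ c : ℕ, x = permOf 17 131071 98280 piE ^ c * permOf 17 131071 98280 rhoE * (permOf 17 131071 98280 piE ^ c)⁻¹ := by
  refine hconjS_of_search hA hd vP vR mP mR hpow ?_
  have hs := sA
  rw [searchL_eq hr hd, hLL] at hs
  exact search_useP hA (X := permOf 17 131071 98280 piE) (X' := permOf 17 131071 98280 piE ^ 2) (gt_eq vP)
    (fun i => by rw [iterF_eq]; exact iter_eq (gt_eq vP) _ _) (by have h := ruA; rw [hLL] at h; exact h) hs

theorem vZ' : validB 17 131071 98280 rhoE = true := vR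

theorem hZ : permOf 17 131071 98280 rhoE = permOf 17 131071 98280 rhoE ^ 1 := (pow_one _).symm

theorem mZ : permOf 17 131071 98280 rhoE ∈ K := mR

theorem hyZ : permOf 17 131071 98280 yE * permOf 17 131071 98280 rhoE = permOf 17 131071 98280 rhoE * permOf 17 131071 98280 yE :=
  comm_of_base hA vY vZ' mY mZ (by have h := commYZ; rw [hLL] at h; exact h)

theorem hleafB : ∀ c ∈ K, (∀ a, c (permOf 17 131071 98280 rhoE a) = permOf 17 131071 98280 rhoE (c a)) →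
    ∃ vf vi, Rep c vf vi ∧ finLeaf1i 17 131071 piE rhoE yE kills (baseL (lrlvB.map Prod.fst)) vf vi = true := by
  have hs := sB
  rw [searchL_eq hr hd, hLL] at hs
  exact search_useP hB (X := permOf 17 131071 98280 rhoE) (X' := permOf 17 131071 98280 rhoE) (gt_eq vZ') (gt_eq vZ')
    (by have h := ruB; rw [hLL] at h; exact h) hs

/-- The outer automorphism group of the group. -/
theorem card_out : Nat.card (Out Cfsg.Spor.Co1) = 1 := by
  rw [out_eq]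
  refine card_out_one_inv' (p := 23) (r := 2) (zk := 1) (pe := piE) (re := rhoE) (ye := yE) (ze := rhoE)
    (kills := kills) hB hd rfl vP vR vY ?_ hpow ?_ hrel ?_ vZ' hZ hyZ hconjP hleafB hkF
  · rw [card_K]; norm_num
  · exact ne_one_of_point vP (i := 0) (by norm_num) (by decide +kernel)
  · exact hexp2_of_check (by norm_num) (by decide)

end Cfsg.Agent.Lib.Sporadic.Co1Out.Main
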