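import Mathlib
import Cfsg.Agent.Lib.Sporadic.LeechPM
import Cfsg.Agent.Lib.Sporadic.Co1Out.Vecs
import Cfsg.Agent.Lib.Sporadic.Co1Out.DataE

/-! The kernel checks of the action of the generators on the vectors. -/

set_option autoImplicit false
set_option maxRecDepth 100000

namespace Cfsg.Agent.Lib.Sporadic.Co1Out.Table

open Cfsg Cfsg.Agent.Lib.Compute.PermCert Cfsg.Agent.Lib.Compute.OutChain Cfsg.Agent.Lib.Compute.OutChainC
  Cfsg.Agent.Lib.Sporadic.LeechKey Cfsg.Agent.Lib.Sporadic.LeechMcLData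
  Cfsg.Agent.Lib.Sporadic.LeechA0 Cfsg.Agent.Lib.Sporadic.LeechMin Cfsg.Agent.Lib.Sporadic.LeechFast
  Cfsg.Agent.Lib.Sporadic.LeechPM
open Cfsg.Agent.Lib.Sporadic.Co1Out.Vecs Cfsg.Agent.Lib.Sporadic.Co1Out.DataE
open Cfsg.Agent.Lib.Sporadic.LeechMat

theorem sorted_ok : allN (sortedChk TT 98280) 98280 17 = true := by decide +kernel
theorem bound_ok : allN (fun i => Nat.blt (TT i) LeechPM.codeZ) 98280 17 = true := by decide +kernel
theorem tree_ok : allN (treeChk 17 131071 98280 [eG0, eG1, eG2, eG3] TC) 98280 17 = true := by decide +kernel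
theorem root_ok : inLattice (decV (TT 0)) = true := by decide +kernel

end Cfsg.Agent.Lib.Sporadic.Co1Out.Table
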